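import Cfsg.Agent.Lib.SmallN.ThreePrimes.Theta

/-!
Simple groups of order `p r q ^ b`.
-/

set_option autoImplicit false
set_option linter.style.haveILetI false
set_option linter.unusedSectionVars false

namespace Cfsg.Agent.SmallN

open Cfsg Cfsg.Agent.Char Cfsg.Agent.Blocks Cfsg.Agent.BrauerPairs
open scoped ComplexConjugate Classical

universe u

variable {G : Type u} [Group G] [Fintype G]

theorem three_dvd_two_pow_pred (j : ℕ) : 3 ∣ 2 ^ j - 1 ∨ 3 ∣ 2 ^ (j + 1) - 1 := by
  induction j with
  | zero => left; simp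
  | succ j ih =>
    have h1 := Nat.one_le_two_pow (n := j)
    rw [pow_succ] at ih
    rw [pow_succ, pow_succ]
    omega

theorem three_dvd_two_pow_succ (j : ℕ) : 3 ∣ 2 ^ j + 1 ∨ 3 ∣ 2 ^ (j + 1) + 1 := by
  induction j with
  | zero => right; simp
  | succ j ih =>
    rw [pow_succ] at ih
    rw [pow_succ, pow_succ]
    omega

theorem three_dvd_two_pow_pm (j : ℕ) : 3 ∣ 2 ^ j - 1 ∨ 3 ∣ 2 ^ j + 1 := by
  induction j with
  | zero => left; simp
  | succ j ih =>
    have h1 := Nat.one_le_two_pow (n := j)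
    rw [pow_succ]
    omega

/-- The Burnside transfer theorem for the block data. -/
theorem PBlock.two_le {p : ℕ} [Fact p.Prime] (hperf : commutator G = ⊤) (S : Sylow p G)
    {V : Subgroup G} {e : ℕ} {X Y : Finset (IrrCharacter G)} {δ : ℤ} {sg : IrrCharacter G → ℤ}
    (B : PBlock p (S : Subgroup G) V e X Y δ sg) : 2 ≤ e := by
  by_contra h
  rcases (show e = 0 ∨ e = 1 by omega) with h0 | h1
  · have hN := B.cardN
    rw [h0, mul_zero] at hN
    exact Nat.card_pos.ne' hN
  · have hN := B.cardN
    rw [h1, mul_one, ← B.cardC] at hN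
    have hNC : Subgroup.normalizer ((S : Subgroup G) : Set G) ≤
        Subgroup.centralizer ((S : Subgroup G) : Set G) :=
      (Subgroup.eq_of_le_of_card_ge (Subgroup.centralizer_le_normalizer _) hN.le).ge
    obtain ⟨K, hKn, hK⟩ := Small.exists_normal_index_of_central
      (B.cardS ▸ (S : Subgroup G).card_subgroup_dvd_card) S hNC
    haveI := hKn
    haveI : IsCyclic (G ⧸ K) := isCyclic_of_prime_card (p := p) (by rw [← Subgroup.index_eq_card, hK])
    letI : CommGroup (G ⧸ K) := IsCyclic.commGroup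
    have h2 := commutator_le_of_comm (QuotientGroup.mk' K) fun a b => mul_comm a b
    rw [hperf, QuotientGroup.ker_mk'] at h2
    rw [top_le_iff.1 h2, Subgroup.index_top] at hK
    exact B.hp.ne_one hK.symm

theorem exists_sylow_card {p k : ℕ} [hpF : Fact p.Prime] (hG : Nat.card G = p * k) (hk : ¬ p ∣ k) :
    ∃ S : Sylow p G, Nat.card (S : Subgroup G) = p := by
  obtain ⟨S⟩ : Nonempty (Sylow p G) := inferInstance
  refine ⟨S, ?_⟩
  have hk0 : k ≠ 0 := fun h => hk (h ▸ dvd_zero p)
  rw [S.card_eq_multiplicity, hG, Nat.factorization_mul hpF.out.ne_zero hk0, Finsupp.add_apply,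
    hpF.out.factorization_self, Nat.factorization_eq_zero_of_not_dvd hk, pow_one]

/-- The main result, for `r < p`. -/
theorem three_primes [IsSimpleGroup G] (hperf : commutator G = ⊤) {p q r b : ℕ} (hp : p.Prime)
    (hq : q.Prime) (hr : r.Prime) (hrp : r < p) (hpq : p ≠ q) (hqr : q ≠ r)
    (hG : Nat.card G = p * r * q ^ b) :
    Nat.card G = 60 ∨ (p = 7 ∧ Nat.card G < 343) := by
  haveI hpF : Fact p.Prime := ⟨hp⟩
  haveI hrF : Fact r.Prime := ⟨hr⟩
  have h4 := card_mod_four hperf
  -- `p` and `r` are odd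
  have hp2 : p ≠ 2 := by have := hr.two_le; omega
  have hr2 : r ≠ 2 := by
    rintro rfl
    refine h4 ?_
    have hq2 : Odd q := hq.odd_of_ne_two hqr
    obtain ⟨a, ha⟩ := (hp.odd_of_ne_two hp2).mul (hq2.pow (n := b))
    rw [hG, mul_right_comm, ha]
    omega
  have hr_two := hr.two_le
  have hp_odd := Nat.odd_iff.1 (hp.odd_of_ne_two hp2)
  have hr_odd := Nat.odd_iff.1 (hr.odd_of_ne_two hr2)
  have hpk : ¬ p ∣ r * q ^ b := by
    intro h
    rcases hp.dvd_mul.1 h with h | h
    · have := Nat.le_of_dvd hr.pos h; omega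
    · exact hpq ((Nat.prime_dvd_prime_iff_eq hp hq).1 (hp.dvd_of_dvd_pow h))
  obtain ⟨S, hS⟩ := exists_sylow_card (by rw [hG, mul_assoc]) hpk
  obtain ⟨V, e, X, Y, δ, sg, B⟩ := exists_pblock S hS
  have he2 := PBlock.two_le hperf S B
  have hed : e ∣ p - 1 := ⟨Y.card, by rw [← B.cardY, mul_comm]⟩
  have hep : e < p := by have := Nat.le_of_dvd (by omega) hed; omega
  have hne1 : ∀ χ : IrrCharacter G, χ ≠ principal G → 2 ≤ charDegree (χ : G → ℂ) := fun χ hne => by
    by_contra h
    refine hne (eq_principal_of_deg_one hperf ?_)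
    rw [irr_one_eq_charDegree, show charDegree (χ : G → ℂ) = 1 by have := charDegree_pos χ; omega,
      Nat.cast_one]
  have hdiv : ∀ χ : IrrCharacter G, χ ∈ X ∨ χ ∈ Y → charDegree (χ : G → ℂ) ∣ r * q ^ b :=
    fun χ h => by
      have h1 := charDegree_dvd_card χ
      rw [hG, mul_assoc] at h1
      exact ((hp.coprime_iff_not_dvd.2 (B.not_dvd χ h)).symm).dvd_of_dvd_mul_left h1
  -- no nonprincipal character of the first family has degree `r`
  have hXr : ∀ χ ∈ X, charDegree (χ : G → ℂ) ≠ r := by
    intro χ hχ h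
    obtain ⟨w, hw⟩ := Int.modEq_iff_dvd.1 (B.modX χ hχ)
    rw [h] at hw
    have := hr.two_le
    rcases B.signX χ hχ with hs | hs <;> rw [hs] at hw
    · rcases lt_trichotomy w 0 with h0 | h0 | h0
      · have : (p : ℤ) * w ≤ (p : ℤ) * -1 := mul_le_mul_of_nonneg_left (by omega) (by omega)
        omega
      · subst h0; omega
      · have : (p : ℤ) * 1 ≤ (p : ℤ) * w := mul_le_mul_of_nonneg_left (by omega) (by omega)
        omega
    · rcases lt_trichotomy w (-1) with h0 | h0 | h0
      · have : (p : ℤ) * w ≤ (p : ℤ) * -2 := mul_le_mul_of_nonneg_left (by omega) (by omega)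
        omega
      · subst h0; omega
      · have : (p : ℤ) * 0 ≤ (p : ℤ) * w := mul_le_mul_of_nonneg_left (by omega) (by omega)
        omega
  -- a character of degree `r`
  obtain ⟨θ, hθ, hθne, hθr⟩ : ∃ θ ∈ Y, θ ≠ principal G ∧ charDegree (θ : G → ℂ) = r := by
    by_contra hcon
    push Not at hcon
    have hall : ∀ χ, χ ∈ X ∨ χ ∈ Y → χ ≠ principal G → (q : ℤ) ∣ (charDegree (χ : G → ℂ) : ℤ) := by
      intro χ h hne
      by_contra hd
      rw [Int.natCast_dvd_natCast] at hd
      have h1 := ((hq.coprime_iff_not_dvd.2 hd).symm.pow_right b).dvd_of_dvd_mul_right (hdiv χ h)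
      have h2 : charDegree (χ : G → ℂ) = r :=
        ((Nat.dvd_prime hr).1 h1).resolve_left (by have := hne1 χ hne; omega)
      rcases h with h | h
      · exact hXr χ h h2
      · exact hcon χ h hne h2
    obtain ⟨θ0, hθ0⟩ := B.nonempty
    have hrel := B.relation_one hθ0
    have hdp : charDegree (principal G : G → ℂ) = 1 := Cfsg.Agent.CharX.charDegree_one
    have hnq : ¬ (q : ℤ) ∣ 1 := fun h =>
      hq.one_lt.ne' (by exact_mod_cast Int.eq_one_of_dvd_one (by positivity) h)
    rcases B.prin with h | h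
    · have hYq : (q : ℤ) ∣ δ * (charDegree (θ0 : G → ℂ) : ℤ) :=
        dvd_mul_of_dvd_right (hall θ0 (Or.inr hθ0)
          fun e => Finset.disjoint_left.1 B.disj h (e ▸ hθ0)) _
      rw [← Finset.add_sum_erase _ _ h, B.sign_principal h, hdp] at hrel
      refine hnq ?_
      have h1 : (q : ℤ) ∣ ∑ χ ∈ X.erase (principal G), sg χ * (charDegree (χ : G → ℂ) : ℤ) :=
        Finset.dvd_sum fun χ hχ => dvd_mul_of_dvd_right
          (hall χ (Or.inl (Finset.mem_of_mem_erase hχ)) (Finset.ne_of_mem_erase hχ)) _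
      have h2 := dvd_neg.2 (dvd_add h1 hYq)
      push_cast at hrel
      have he1 : -(∑ χ ∈ X.erase (principal G), sg χ * (charDegree (χ : G → ℂ) : ℤ) +
          δ * (charDegree (θ0 : G → ℂ) : ℤ)) = 1 := by linarith
      rwa [he1] at h2
    · obtain rfl : θ0 = principal G := by
        rw [B.single h, Finset.mem_singleton] at hθ0; exact hθ0
      have hπX : principal G ∉ X := fun h' => Finset.disjoint_left.1 B.disj h' h
      have h1 : (q : ℤ) ∣ ∑ χ ∈ X, sg χ * (charDegree (χ : G → ℂ) : ℤ) :=
        Finset.dvd_sum fun χ hχ => dvd_mul_of_dvd_right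
          (hall χ (Or.inl hχ) fun e => hπX (e ▸ hχ)) _
      rw [hdp] at hrel
      push_cast at hrel
      refine hnq ?_
      rcases B.sign with hd | hd <;> rw [hd] at hrel
      · rw [show ∑ χ ∈ X, sg χ * (charDegree (χ : G → ℂ) : ℤ) = -1 by linarith, dvd_neg] at h1
        exact h1
      · rwa [show ∑ χ ∈ X, sg χ * (charDegree (χ : G → ℂ) : ℤ) = 1 by linarith] at h1
  have hcase : (δ = -1 ∧ e = r) ∨ (δ = 1 ∧ r + e = p) := by
    obtain ⟨w, hw⟩ := Int.modEq_iff_dvd.1 (B.modY θ hθ)
    rw [hθr] at hw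
    have := hr.two_le
    rcases B.sign with hd | hd <;> rw [hd] at hw
    · refine Or.inr ⟨hd, ?_⟩
      rcases lt_trichotomy w (-1) with h0 | h0 | h0
      · have : (p : ℤ) * w ≤ (p : ℤ) * -2 := mul_le_mul_of_nonneg_left (by omega) (by omega)
        omega
      · subst h0; omega
      · have : (p : ℤ) * 0 ≤ (p : ℤ) * w := mul_le_mul_of_nonneg_left (by omega) (by omega)
        omega
    · refine Or.inl ⟨hd, ?_⟩
      rcases lt_trichotomy w 0 with h0 | h0 | h0
      · have : (p : ℤ) * w ≤ (p : ℤ) * -1 := mul_le_mul_of_nonneg_left (by omega) (by omega)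
        omega
      · subst h0; omega
      · have : (p : ℤ) * 1 ≤ (p : ℤ) * w := mul_le_mul_of_nonneg_left (by omega) (by omega)
        omega
  have hV : Nat.card V = 1 := B.V_eq_one hperf hθ hθne
    (hcase.imp (fun h => ⟨h.1, hθr.trans h.2.symm⟩) (fun h => ⟨h.1, by omega⟩)) (by omega)
  have hC : ∀ {l : ℕ} (T W : Subgroup G), Nat.card T = l → Nat.card W = 1 →
      Nat.card (Subgroup.centralizer (T : Set G)) = l * Nat.card W → l.Prime →
      Subgroup.centralizer (T : Set G) = T := by
    intro l T W hT hW hc hl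
    have hle : T ≤ Subgroup.centralizer (T : Set G) := by
      haveI : Fact l.Prime := ⟨hl⟩
      haveI : IsCyclic T := isCyclic_of_prime_card hT
      letI := IsCyclic.commGroup (α := T)
      exact fun x hx => Subgroup.mem_centralizer_iff.2 fun t ht =>
        congrArg Subtype.val (mul_comm (⟨t, ht⟩ : T) ⟨x, hx⟩)
    exact (Subgroup.eq_of_le_of_card_ge hle (le_of_eq (by rw [hc, hW, mul_one, hT]))).symm
  have hq_of_even : 2 ∣ Nat.card G → q = 2 := by
    intro h
    rw [hG] at h
    rcases Nat.prime_two.dvd_mul.1 h with h | h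
    · rcases Nat.prime_two.dvd_mul.1 h with h | h <;> omega
    · exact ((Nat.prime_dvd_prime_iff_eq Nat.prime_two hq).1 (Nat.prime_two.dvd_of_dvd_pow h)).symm
  have hNd : p * e ∣ p * (r * q ^ b) := by
    have h := (Subgroup.normalizer ((S : Subgroup G) : Set G)).card_subgroup_dvd_card
    rwa [B.cardN, hV, mul_one, hG, mul_assoc] at h
  have hedG := Nat.dvd_of_mul_dvd_mul_left hp.pos hNd
  rcases hcase with ⟨hδ, her⟩ | ⟨hδ, hre⟩
  · -- `e = r`
    subst her
    obtain ⟨a, ha⟩ := hed
    have ha2 : 2 ≤ a := by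
      rcases a with _ | _ | a
      · rw [mul_zero] at ha; omega
      · rw [zero_add, mul_one] at ha; omega
      · omega
    have hp2e : 2 * e + 1 ≤ p := by
      have := Nat.mul_le_mul_left e ha2
      omega
    obtain ⟨hpe, hdG⟩ := B.deg_eq_succ hperf hV hθ hδ hθr he2 hp2e
    obtain rfl := hq_of_even ((show 2 ∣ p + 1 by omega).trans hdG)
    have hcop : Nat.Coprime (p + 1) (p * e) := by
      refine Nat.Coprime.mul_right (by simp) ?_
      refine ((hr.coprime_iff_not_dvd).2 fun h => ?_).symm
      have h1 : e ∣ 2 := (Nat.dvd_add_right (dvd_mul_left e 2)).1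
        (show e ∣ 2 * e + 2 from (show p + 1 = 2 * e + 2 by omega) ▸ h)
      have := Nat.le_of_dvd two_pos h1
      omega
    rw [hG] at hdG
    obtain ⟨i, -, hi⟩ := (Nat.dvd_prime_pow Nat.prime_two).1 (hcop.dvd_of_dvd_mul_left hdG)
    obtain ⟨j, rfl⟩ : ∃ j, i = j + 1 := ⟨i - 1, by
      rcases i with _ | i
      · rw [pow_zero] at hi; omega
      · omega⟩
    rw [pow_succ] at hi
    have her3 : e = 3 := by
      rcases three_dvd_two_pow_pred j with h | h
      · rw [show 2 ^ j - 1 = e by omega] at h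
        exact ((Nat.prime_dvd_prime_iff_eq Nat.prime_three hr).1 h).symm
      · rw [pow_succ, show 2 ^ j * 2 - 1 = p by omega] at h
        have := ((Nat.prime_dvd_prime_iff_eq Nat.prime_three hp).1 h)
        omega
    subst her3
    obtain rfl : p = 7 := by omega
    have hek : ¬ 3 ∣ 7 * 2 ^ b := by
      intro h
      rcases Nat.prime_three.dvd_mul.1 h with h | h
      · norm_num at h
      · exact absurd (Nat.prime_three.dvd_of_dvd_pow h) (by norm_num)
    obtain ⟨R, hR⟩ := exists_sylow_card (p := 3) (k := 7 * 2 ^ b) (by rw [hG]; ring) hek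
    obtain ⟨W, e', X', Y', δ', sg', B'⟩ := exists_pblock R hR
    have hW := B'.V_eq_one_of_deg hperf hθne hθr
    obtain rfl : e' = 2 := by
      have h1 : e' ∣ 2 := ⟨Y'.card, by rw [mul_comm]; exact B'.cardY.symm⟩
      have := Nat.le_of_dvd two_pos h1
      have := PBlock.two_le hperf R B'
      omega
    have hbd := two_pow_le hperf (p := 3) (m := 7) (b := b) hp hp2 (by norm_num)
      (by rw [hG]) R hR (hC _ W hR hW B'.cardC Nat.prime_three)
      (by rw [B'.cardN, hW, mul_one])
    exact Or.inr ⟨rfl, by rw [hG]; omega⟩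
  · -- `e = p - r`
    have he_even : 2 ∣ e := by omega
    obtain rfl := hq_of_even (he_even.trans (hedG.trans ⟨p, by rw [hG]; ring⟩))
    have hecop : Nat.Coprime e r := by
      refine ((hr.coprime_iff_not_dvd).2 fun h => ?_).symm
      have h1 : r ∣ p := hre ▸ (dvd_add (dvd_refl r) h)
      have := (Nat.prime_dvd_prime_iff_eq hr hp).1 h1
      omega
    obtain ⟨f, -, rfl⟩ := (Nat.dvd_prime_pow Nat.prime_two).1 (hecop.dvd_of_dvd_mul_left hedG)
    have hπ : principal G ∈ X := by
      refine B.prin.resolve_right fun h => hθne ?_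
      rw [B.single h, Finset.mem_singleton] at hθ
      exact hθ
    have hrel := B.relation_one hθ
    rw [← Finset.add_sum_erase _ _ hπ, B.sign_principal hπ, hδ, hθr,
      show charDegree (principal G : G → ℂ) = 1 from Cfsg.Agent.CharX.charDegree_one] at hrel
    push_cast at hrel
    have hX' : ∀ χ ∈ X.erase (principal G),
        2 ∣ charDegree (χ : G → ℂ) ∧ charDegree (χ : G → ℂ) ∣ r * 2 ^ b := by
      intro χ hχ
      refine ⟨?_, hdiv χ (Or.inl (Finset.mem_of_mem_erase hχ))⟩
      by_contra hd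
      have h1 := ((Nat.prime_two.coprime_iff_not_dvd.2 hd).symm.pow_right b).dvd_of_dvd_mul_right
        (hdiv χ (Or.inl (Finset.mem_of_mem_erase hχ)))
      rcases (Nat.dvd_prime hr).1 h1 with h | h
      · have := hne1 χ (Finset.ne_of_mem_erase hχ); omega
      · exact hXr χ (Finset.mem_of_mem_erase hχ) h
    rcases Nat.lt_or_ge f 2 with hf | hf
    · obtain rfl : f = 1 := by
        rcases f with _ | f
        · rw [pow_zero] at he_even; omega
        · omega
      rw [pow_one] at hre
      obtain ⟨χ, hχ⟩ := Finset.card_eq_one.1 (show (X.erase (principal G)).card = 1 by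
        rw [Finset.card_erase_of_mem hπ, B.cardX, pow_one])
      have hmem : χ ∈ X.erase (principal G) := hχ ▸ Finset.mem_singleton_self χ
      rw [hχ, Finset.sum_singleton] at hrel
      have hz : charDegree (χ : G → ℂ) = r + 1 := by
        rcases B.signX χ (Finset.mem_of_mem_erase hmem) with h | h <;> rw [h] at hrel <;> omega
      have h1 : r + 1 ∣ r * 2 ^ b := hz ▸ (hX' χ hmem).2
      obtain ⟨j, -, hj⟩ := (Nat.dvd_prime_pow Nat.prime_two).1
        ((show Nat.Coprime (r + 1) r by simp).dvd_of_dvd_mul_left h1)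
      obtain rfl : r = 3 := by
        rcases three_dvd_two_pow_pm j with h | h
        · rw [← hj, show r + 1 - 1 = r by omega] at h
          exact ((Nat.prime_dvd_prime_iff_eq Nat.prime_three hr).1 h).symm
        · rw [← hj, show r + 1 + 1 = p by omega] at h
          have := (Nat.prime_dvd_prime_iff_eq Nat.prime_three hp).1 h
          omega
      obtain rfl : p = 5 := by omega
      have hbd := two_pow_le hperf (p := 5) (m := 3) (b := b) hr hr2 (by norm_num) hG S hS
        (hC _ V hS hV B.cardC hp) (by rw [B.cardN, hV, mul_one, pow_one])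
      refine Or.inl ?_
      have h2 : 2 ∣ 2 ^ b := ((show Nat.Coprime 2 3 by norm_num).dvd_of_dvd_mul_left hedG)
      rw [hG] at h4 ⊢
      omega
    · exfalso
      have h4e : 4 ∣ 2 ^ f := by
        rw [show (4 : ℕ) = 2 ^ 2 by norm_num]; exact Nat.pow_dvd_pow 2 hf
      have hr4 : r % 4 = 1 := by
        have := h4e.trans hed
        omega
      obtain ⟨χ, hχ, hχ4⟩ : ∃ χ ∈ X.erase (principal G), ¬ 4 ∣ charDegree (χ : G → ℂ) := by
        by_contra hcon
        push Not at hcon
        have h1 : (4 : ℤ) ∣ ∑ χ ∈ X.erase (principal G), sg χ * (charDegree (χ : G → ℂ) : ℤ) :=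
          Finset.dvd_sum fun χ hχ => dvd_mul_of_dvd_right (by exact_mod_cast hcon χ hχ) _
        omega
      obtain ⟨hχ2, hχd⟩ := hX' χ hχ
      obtain ⟨d, hd⟩ := hχ2
      have hdodd : ¬ 2 ∣ d := fun h => hχ4 (by rw [hd]; omega)
      have hdr : d ∣ r := ((Nat.prime_two.coprime_iff_not_dvd.2 hdodd).symm.pow_right b).dvd_of_dvd_mul_right
        ((dvd_mul_left d 2).trans (hd ▸ hχd))
      obtain ⟨w, hw⟩ := Int.modEq_iff_dvd.1 (B.modX χ (Finset.mem_of_mem_erase hχ))
      have hs := B.signX χ (Finset.mem_of_mem_erase hχ)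
      rw [hd] at hw
      push_cast at hw
      have hpw : ∀ z : ℕ, (z : ℤ) = 2 * (d : ℤ) - sg χ → 0 < z → p ∣ z := fun z hz _ => by
        have : (p : ℤ) ∣ (z : ℤ) := ⟨-w, by rw [hz]; linarith⟩
        exact_mod_cast this
      rcases (Nat.dvd_prime hr).1 hdr with rfl | hd'
      · -- degree two
        rcases hs with h | h
        · have := Nat.le_of_dvd one_pos (hpw 1 (by rw [h]; norm_num) one_pos)
          omega
        · have := Nat.le_of_dvd three_pos (hpw 3 (by rw [h]; norm_num) three_pos)
          omega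
      · subst hd'
        have h2e : 2 * 2 ^ f + 1 ≤ p := by
          obtain ⟨a, ha⟩ := hed
          rcases a with _ | _ | a
          · rw [mul_zero] at ha; omega
          · rw [zero_add, mul_one] at ha; omega
          · rw [mul_add, mul_add, mul_one] at ha; omega
        rcases hs with h | h
        · -- `2 r - 1`
          obtain ⟨t, ht⟩ := hpw (2 * d - 1) (by rw [h]; omega) (by omega)
          rcases t with _ | _ | t
          · rw [mul_zero] at ht; omega
          · rw [zero_add, mul_one] at ht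
            have hpd : p = 2 ^ (f + 1) + 1 ∧ d = 2 ^ f + 1 := by rw [pow_succ]; omega
            rcases three_dvd_two_pow_succ f with h3 | h3
            · rw [← hpd.2] at h3
              have := (Nat.prime_dvd_prime_iff_eq Nat.prime_three hr).1 h3
              omega
            · rw [← hpd.1] at h3
              have := (Nat.prime_dvd_prime_iff_eq Nat.prime_three hp).1 h3
              omega
          · rw [mul_add, mul_add, mul_one] at ht; omega
        · -- `2 r + 1`
          obtain ⟨t, ht⟩ := hpw (2 * d + 1) (by rw [h]; push_cast; ring) (by omega)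
          rcases t with _ | _ | _ | t
          · rw [mul_zero] at ht; omega
          · rw [zero_add, mul_one] at ht; omega
          · rw [zero_add, mul_add, mul_one] at ht; omega
          · rw [mul_add, mul_add, mul_add, mul_one] at ht; omega

end Cfsg.Agent.SmallN
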