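import Cfsg.Agent.Lib.SmallN.CentGen

/-!
The principal block at a prime dividing the order exactly once, in the form needed for the
groups of order `p r q ^ b`.
-/

set_option autoImplicit false
set_option linter.style.haveILetI false
set_option linter.unusedSectionVars false

namespace Cfsg.Agent.SmallN

open Cfsg Cfsg.Agent.Char Cfsg.Agent.Blocks Cfsg.Agent.BrauerPairs
open scoped ComplexConjugate Classical

universe u

variable {G : Type u} [Group G] [Fintype G]

/-- The data of the principal block. -/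
structure PBlock (p : ℕ) (S V : Subgroup G) (e : ℕ) (X Y : Finset (IrrCharacter G)) (δ : ℤ)
    (sg : IrrCharacter G → ℤ) : Prop where
  hp : p.Prime
  cardS : Nat.card S = p
  cardC : Nat.card (Subgroup.centralizer (S : Set G)) = p * Nat.card V
  cardN : Nat.card (Subgroup.normalizer (S : Set G)) = p * Nat.card V * e
  V_le : V ≤ Subgroup.centralizer (S : Set G)
  regular : ¬ p ∣ Nat.card V
  sign : δ = 1 ∨ δ = -1
  disj : Disjoint X Y
  nonempty : Y.Nonempty
  cardX : X.card = e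
  cardY : Y.card * e = p - 1
  signX : ∀ χ ∈ X, sg χ = 1 ∨ sg χ = -1
  valX : ∀ χ ∈ X, ∀ y ∈ S, y ≠ 1 → (χ : G → ℂ) y = (sg χ : ℂ)
  agree : ∀ θ ∈ Y, ∀ θ' ∈ Y, ∀ g, ¬ p ∣ orderOf g → (θ : G → ℂ) g = (θ' : G → ℂ) g
  linY : ∀ θ ∈ Y, ∃ L : Finset (S →* ℂˣ), 1 ∉ L ∧ L.card = e ∧
    ∀ y : S, y ≠ 1 → (θ : G → ℂ) y = -(δ : ℂ) * ∑ l ∈ L, ((l y : ℂˣ) : ℂ)
  modX : ∀ χ ∈ X, (charDegree (χ : G → ℂ) : ℤ) ≡ sg χ [ZMOD p]
  modY : ∀ θ ∈ Y, (charDegree (θ : G → ℂ) : ℤ) ≡ -(δ * e) [ZMOD p]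
  relation : ∀ g : G, ¬ p ∣ orderOf g → ∀ θ ∈ Y,
    ∑ χ ∈ X, (sg χ : ℂ) * (χ : G → ℂ) g + (δ : ℂ) * (θ : G → ℂ) g = 0
  sect : ∀ χ, χ ∈ X ∨ χ ∈ Y → ∀ y ∈ S, y ≠ 1 → ∀ x ∈ V, (χ : G → ℂ) (x * y) = (χ : G → ℂ) y
  zeroV : ∀ χ : IrrCharacter G, p ∣ charDegree (χ : G → ℂ) →
    ∀ y ∈ S, y ≠ 1 → ∀ x ∈ V, (χ : G → ℂ) (x * y) = 0
  cover : Nat.card V = 1 → ∀ χ : IrrCharacter G, χ ∈ X ∨ χ ∈ Y ∨ p ∣ charDegree (χ : G → ℂ)
  prin : principal G ∈ X ∨ principal G ∈ Y
  single : principal G ∈ Y → Y = {principal G}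
  not_dvd : ∀ χ, χ ∈ X ∨ χ ∈ Y → ¬ p ∣ charDegree (χ : G → ℂ)

theorem exists_pblock {p : ℕ} [hpF : Fact p.Prime] (S : Sylow p G)
    (hS : Nat.card (S : Subgroup G) = p) :
    ∃ V e X Y δ sg, PBlock (G := G) p (S : Subgroup G) V e X Y δ sg := by
  have hp : p.Prime := Fact.out
  obtain ⟨V, e, K, -⟩ := DefOne.exists_conf hp S hS
  haveI : Fintype V := Fintype.ofFinite _
  haveI : Fintype (Subgroup.normalizer ((S : Subgroup G) : Set G)) := Fintype.ofFinite _
  haveI : Fintype ((S : Subgroup G) →* ℂˣ) := Fintype.ofFinite _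
  obtain ⟨M, hM⟩ := exists_isPModular_witness p
  haveI : M.IsMaximal := hM.2.1
  obtain ⟨eb, X, Y, δ, sg, F⟩ := DefOne.exists_families K hM (DefOne.trivB V)
  have hee : eb = e := DefOne.eb_triv K F
  subst hee
  have hB := DefOne.principal_eq K hM F
  have hmem : ∀ χ, χ ∈ X ∨ χ ∈ Y → χ ∈ principalBlock M G := fun χ h => by rw [hB]; exact h
  have hval : ∀ χ, χ ∈ X ∨ χ ∈ Y → ∀ y : (S : Subgroup G), y ≠ 1 →
      (χ : G → ℂ) y = DefOne.phi (χ : G → ℂ) (DefOne.trivB V) y := fun χ h y hy =>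
    (DefOne.phi_principal K hM (hmem χ h) hy).symm
  have hcomm : ∀ y ∈ (S : Subgroup G), ∀ x ∈ V, x * y = y * x := fun y hy x hx =>
    (K.D.pv y hy x hx).symm
  refine ⟨V, eb, X, Y, δ, sg,
    { hp := hp
      cardS := hS
      cardC := DefOne.card_centralizer K
      cardN := by rw [K.D.hcard, K.hP]; ring
      V_le := DefOne.V_le_centralizer K
      regular := K.hV
      sign := F.sign
      disj := F.disj
      nonempty := F.nonempty
      cardX := F.cardX
      cardY := F.cardY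
      signX := F.signX
      valX := fun χ hχ y hy hy1 => ?_
      agree := fun θ hθ θ' hθ' g hg => DefOne.Families.agree K F hθ hθ' hg
      linY := fun θ hθ => ?_
      modX := fun χ hχ => ?_
      modY := fun θ hθ => ?_
      relation := fun g hg θ hθ => DefOne.Families.relation K F hθ hg
      sect := fun χ hχ y hy hy1 x hx => ?_
      zeroV := fun χ hd y hy hy1 x hx => ?_
      cover := fun hV1 χ => ?_
      prin := ?_
      single := fun h => ?_
      not_dvd := fun χ h => ?_ }⟩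
  · rw [hval χ (Or.inl hχ) ⟨y, hy⟩ (fun h => hy1 (congrArg Subtype.val h)),
      DefOne.Families.phi_X K F hχ (fun h => hy1 (congrArg Subtype.val h))]
  · refine ⟨Finset.univ.filter fun l => DefOne.acoef K θ (DefOne.trivB V) l ≠ 0, ?_, ?_, ?_⟩
    · simp [DefOne.acoef_one]
    · have h := F.sumY θ hθ
      rw [← Finset.sum_filter_ne_zero, Finset.sum_congr rfl fun l hl =>
        (F.valY θ hθ l).resolve_left (Finset.mem_filter.1 hl).2, Finset.sum_const, nsmul_eq_mul,
        mul_comm] at h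
      have hδ : δ ≠ 0 := by rcases F.sign with h | h <;> omega
      exact_mod_cast mul_left_cancel₀ hδ h
    · intro y hy
      rw [hval θ (Or.inr hθ) y hy, DefOne.phi_eq_acoef K θ _ hy, ← Finset.sum_subset
          (Finset.subset_univ (Finset.univ.filter fun l =>
            DefOne.acoef K θ (DefOne.trivB V) l ≠ 0)) fun l _ hl => by
          simp only [Finset.mem_filter, Finset.mem_univ, true_and, not_not] at hl
          rw [hl, Int.cast_zero, zero_mul],
        Finset.sum_congr rfl fun l hl => by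
          rw [(F.valY θ hθ l).resolve_left (Finset.mem_filter.1 hl).2], ← Finset.mul_sum]
      ring
  · have h := DefOne.degree_congr K hM (hmem χ (Or.inl hχ))
    rw [DefOne.Families.sum_X K F hχ] at h
    exact h.trans (Int.modEq_iff_dvd.2 ⟨sg χ, by ring⟩)
  · have h := DefOne.degree_congr K hM (hmem θ (Or.inr hθ))
    rwa [F.sumY θ hθ] at h
  · rw [hcomm y hy x hx]
    exact DefOne.section_const K hM (hmem χ hχ) hy hy1 hx
  · rw [hcomm y hy x hx]
    exact DefOne.section_zero_of_dvd K hM hd (y := ⟨y, hy⟩)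
      (fun h => hy1 (congrArg Subtype.val h)) ⟨x, hx⟩
  · by_contra hcon
    simp only [not_or] at hcon
    obtain ⟨b, hb⟩ := DefOne.exists_inR K hM hcon.2.2
    haveI : Subsingleton V := Finite.card_le_one_iff_subsingleton.1 hV1.le
    obtain rfl : b = DefOne.trivB V := Subtype.ext (funext fun x => by
      have hx : x = 1 := Subsingleton.elim _ _
      rw [hx, degree_one_of_comm (fun _ _ => Subsingleton.elim _ _) b.2]
      rfl)
    exact ((DefOne.mem_iff_inR K F χ).2 hb).elim hcon.1 hcon.2.1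
  · have := principal_mem_principalBlock (M := M) (G := G)
    rwa [hB] at this
  · refine Finset.eq_singleton_iff_unique_mem.2 ⟨h, fun θ hθ => ?_⟩
    obtain ⟨σ, -, rfl⟩ := F.transY _ h θ hθ
    exact Subtype.ext (funext fun g => map_one σ)
  · intro hd
    haveI : Nontrivial (S : Subgroup G) :=
      Finite.one_lt_card_iff_nontrivial.1 (by rw [hS]; exact hp.one_lt)
    obtain ⟨y, hy⟩ := exists_ne (1 : (S : Subgroup G))
    have h0 := DefOne.section_zero_of_dvd K hM hd hy 1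
    rw [OneMemClass.coe_one, mul_one] at h0
    exact DefOne.value_ne_zero K hM (hmem χ h) y.2 (fun h' => hy (Subtype.ext h')) h0

namespace PBlock

variable {p : ℕ} {S V : Subgroup G} {e : ℕ} {X Y : Finset (IrrCharacter G)} {δ : ℤ}
  {sg : IrrCharacter G → ℤ} (B : PBlock p S V e X Y δ sg)
include B

theorem exists_ne_one : ∃ y : S, y ≠ 1 := by
  haveI : Nontrivial S := Finite.one_lt_card_iff_nontrivial.1 (by rw [B.cardS]; exact B.hp.one_lt)
  exact exists_ne 1

theorem sign_principal (h : principal G ∈ X) : sg (principal G) = 1 := by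
  obtain ⟨y, hy⟩ := B.exists_ne_one
  have := B.valX _ h y y.2 fun h' => hy (Subtype.ext h')
  simp only [principal] at this
  exact_mod_cast this.symm

theorem deg_Y {θ θ' : IrrCharacter G} (h : θ ∈ Y) (h' : θ' ∈ Y) :
    (θ : G → ℂ) 1 = (θ' : G → ℂ) 1 :=
  B.agree θ h θ' h' 1 (by simpa using B.hp.ne_one)

theorem relation_one {θ : IrrCharacter G} (hθ : θ ∈ Y) :
    ∑ χ ∈ X, sg χ * (charDegree (χ : G → ℂ) : ℤ) + δ * (charDegree (θ : G → ℂ) : ℤ) = 0 := by
  have h := B.relation 1 (by simpa using B.hp.ne_one) θ hθ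
  simp only [irr_one_eq_charDegree] at h
  exact_mod_cast h

theorem sum_Y {θ : IrrCharacter G} (hθ : θ ∈ Y) :
    ∑ y ∈ Finset.univ.erase (1 : S), (θ : G → ℂ) y = (δ : ℂ) * e := by
  obtain ⟨L, hL1, hLc, hL⟩ := B.linY θ hθ
  rw [Finset.sum_congr rfl fun y hy => hL y (Finset.ne_of_mem_erase hy), ← Finset.mul_sum,
    Finset.sum_comm]
  have hl : ∀ l ∈ L, ∑ y ∈ Finset.univ.erase (1 : S), ((l y : ℂˣ) : ℂ) = -1 := by
    intro l hl
    have h := Finset.add_sum_erase Finset.univ (fun y : S => ((l y : ℂˣ) : ℂ)) (Finset.mem_univ 1)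
    have h0 : ∑ y : S, ((l y : ℂˣ) : ℂ) = 0 :=
      sum_hom_units_eq_zero ((Units.coeHom ℂ).comp l) fun h' => hL1 (by
        rwa [← (MonoidHom.ext fun y => Units.ext (DFunLike.congr_fun h' y) : l = 1)])
    rw [h0] at h
    simp only [map_one, Units.val_one] at h
    linear_combination h
  rw [Finset.sum_congr rfl hl, Finset.sum_const, hLc, nsmul_eq_mul]
  ring

/-- The exceptional characters add up to the sign. -/
theorem col_Y (hV : Nat.card V = 1) {y : G} (hy : y ∈ S) (hy1 : y ≠ 1) :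
    ∑ θ ∈ Y, (θ : G → ℂ) y = (δ : ℂ) := by
  obtain ⟨θ0, hθ0⟩ := B.nonempty
  have h := column_orth_of_not_isConj (g := y) (h := (1 : G))
    (fun hc => hy1 (isConj_one_left.1 hc))
  simp only [irr_one_eq_charDegree, Complex.conj_natCast] at h
  rw [← Finset.sum_subset (Finset.subset_univ (X ∪ Y)) fun χ _ hχ => by
      rw [Finset.mem_union, not_or] at hχ
      have hd := ((B.cover hV χ).resolve_left hχ.1).resolve_left hχ.2
      have h0 := B.zeroV χ hd y hy hy1 1 V.one_mem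
      rw [one_mul] at h0
      rw [h0, zero_mul],
    Finset.sum_union B.disj, Finset.sum_congr rfl fun χ hχ => by rw [B.valX χ hχ y hy hy1],
    Finset.sum_congr (s₁ := Y) rfl fun θ hθ => by
      rw [← irr_one_eq_charDegree θ, B.deg_Y hθ hθ0, irr_one_eq_charDegree θ0],
    ← Finset.sum_mul] at h
  have h1 : ((∑ χ ∈ X, sg χ * (charDegree (χ : G → ℂ) : ℤ) +
      δ * (charDegree (θ0 : G → ℂ) : ℤ) : ℤ) : ℂ) = ((0 : ℤ) : ℂ) := by rw [B.relation_one hθ0]
  push_cast at h1
  refine mul_right_cancel₀ (Nat.cast_ne_zero.2 (charDegree_pos θ0).ne' : (charDegree (θ0 : G → ℂ) : ℂ) ≠ 0) ?_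
  linear_combination h - h1

end PBlock

end Cfsg.Agent.SmallN
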