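import Cfsg.Agent.Lib.SmallN.ThreePrimes.Block
import Cfsg.Agent.Lib.BrauerPairs.FaithfulPPower

/-!
A bound on the Sylow two-subgroup of a simple group of order `p m 2 ^ b`.
-/

set_option autoImplicit false
set_option linter.style.haveILetI false
set_option linter.unusedSectionVars false

namespace Cfsg.Agent.SmallN

open Cfsg Cfsg.Agent.Char Cfsg.Agent.Blocks Cfsg.Agent.BrauerPairs
open scoped ComplexConjugate Classical

universe u

variable {G : Type u} [Group G] [Fintype G]

theorem center_eq_bot [IsSimpleGroup G] (hperf : commutator G = ⊤) : Subgroup.center G = ⊥ := by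
  rcases (inferInstance : (Subgroup.center G).Normal).eq_bot_or_eq_top with h | h
  · exact h
  · exfalso
    have h1 : commutator G = ⊥ := by
      rw [commutator_def, Subgroup.commutator_eq_bot_iff_le_centralizer, Subgroup.coe_top,
        Subgroup.centralizer_univ, h]
    rw [hperf] at h1
    exact top_ne_bot h1

theorem faithful_of_simple [IsSimpleGroup G] (hperf : commutator G = ⊤) {χ : IrrCharacter G}
    (hne : χ ≠ principal G) {g : G} (h : (χ : G → ℂ) g = (χ : G → ℂ) 1) : g = 1 := by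
  obtain ⟨K, hK, hmem, -⟩ := IsCharacter.exists_kernel (IsIrrCharacter.isCharacter χ.2)
  rcases hK.eq_bot_or_eq_top with h1 | h1
  · have := (hmem g).2 h
    rwa [h1, Subgroup.mem_bot] at this
  · exfalso
    obtain ⟨n, ρ, hρ, hc⟩ := χ.2
    haveI := hρ
    have hn : (χ : G → ℂ) 1 = (n : ℂ) := by simp [← hc, Representation.char_one]
    have hall : ∀ x : G, ρ x = LinearMap.id := fun x => (char_eq_degree_iff ρ x).1 (by
      rw [congrFun hc x, (hmem x).1 (h1 ▸ Subgroup.mem_top x), hn]; simp)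
    have hcls : IsClassFunction G (χ : G → ℂ) :=
      IsCharacter.isClassFunction (IsIrrCharacter.isCharacter χ.2)
    have h2 : classInner (χ : G → ℂ) (principal G : G → ℂ) = (n : ℂ) := by
      rw [classInner, Finset.sum_congr rfl fun x _ => by
        rw [(hmem x).1 (h1 ▸ Subgroup.mem_top x), show (principal G : G → ℂ) x = 1 from rfl, map_one,
          mul_one], Finset.sum_const, Finset.card_univ, nsmul_eq_mul, hn, ← mul_assoc,
        Nat.card_eq_fintype_card, inv_mul_cancel₀ (Nat.cast_ne_zero.2 Fintype.card_ne_zero), one_mul]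
    rw [classInner_irr_of_ne χ.2 (principal G).2 fun e => hne (Subtype.ext e), ← hn] at h2
    exact irr_one_ne_zero χ h2.symm

/-- A value of full absolute value. -/
theorem eq_one_of_norm [IsSimpleGroup G] (hperf : commutator G = ⊤) {χ : IrrCharacter G}
    (hne : χ ≠ principal G) {g : G} (h : ‖(χ : G → ℂ) g‖ = (charDegree (χ : G → ℂ) : ℝ)) : g = 1 := by
  obtain ⟨n, ρ, hρ, hc⟩ := id χ.2
  haveI := hρ
  have h1 : (χ : G → ℂ) 1 = (n : ℂ) := by simp [← hc, Representation.char_one]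
  have hn : charDegree (χ : G → ℂ) = n := by simp [charDegree, h1]
  rw [hn, ← congrFun hc g] at h
  obtain ⟨ω, hω⟩ := (norm_char_eq_iff ρ g).1 (by simpa using h)
  have hmem : g ∈ Subgroup.center G := Subgroup.mem_center_iff.2 fun k => by
    refine mul_inv_eq_one.1 (faithful_of_simple hperf hne ?_)
    have hid : ρ (k * g * (g * k)⁻¹) = LinearMap.id := by
      have hcom : ρ (k * g) = ρ (g * k) := by
        rw [map_mul, map_mul, hω]; ext v; simp
      rw [map_mul ρ (k * g), hcom, ← map_mul, mul_inv_cancel, map_one, Module.End.one_eq_id]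
    rw [← congrFun hc (k * g * (g * k)⁻¹), (char_eq_degree_iff ρ _).2 hid, h1]
    simp
  rwa [center_eq_bot hperf, Subgroup.mem_bot] at hmem

/-- The two nonprincipal characters of a block with `e = 2`. -/
theorem PBlock.pair {p : ℕ} {S V : Subgroup G} {X Y : Finset (IrrCharacter G)} {δ : ℤ}
    {sg : IrrCharacter G → ℤ} (B : PBlock p S V 2 X Y δ sg) (hV : Nat.card V = 1)
    {y : G} (hy : y ∈ S) (hy1 : y ≠ 1) :
    ∃ a b : IrrCharacter G, ∃ sa sb : ℤ, a ≠ principal G ∧ b ≠ principal G ∧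
      (sa = 1 ∨ sa = -1) ∧ (sb = 1 ∨ sb = -1) ∧
      ¬ p ∣ charDegree (a : G → ℂ) ∧ ¬ p ∣ charDegree (b : G → ℂ) ∧
      ∀ g : G, ¬ p ∣ orderOf g →
        1 + (sa : ℂ) * (a : G → ℂ) g + (sb : ℂ) * (b : G → ℂ) g = 0 ∧
        ∑ χ : IrrCharacter G, (χ : G → ℂ) g ^ 2 * conj ((χ : G → ℂ) y) / (χ : G → ℂ) 1 =
          1 + (sa : ℂ) * ((a : G → ℂ) g ^ 2 / (a : G → ℂ) 1) +
            (sb : ℂ) * ((b : G → ℂ) g ^ 2 / (b : G → ℂ) 1) := by
  obtain ⟨θ0, hθ0⟩ := B.nonempty
  have hbr : ∀ g : G, ¬ p ∣ orderOf g →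
      ∑ χ : IrrCharacter G, (χ : G → ℂ) g ^ 2 * conj ((χ : G → ℂ) y) / (χ : G → ℂ) 1 =
        ∑ χ ∈ X, (sg χ : ℂ) * ((χ : G → ℂ) g ^ 2 / (χ : G → ℂ) 1) +
          (δ : ℂ) * ((θ0 : G → ℂ) g ^ 2 / (θ0 : G → ℂ) 1) := by
    intro g hg
    rw [← Finset.sum_subset (Finset.subset_univ (X ∪ Y)) fun χ _ hχ => by
        rw [Finset.mem_union, not_or] at hχ
        have hd := ((B.cover hV χ).resolve_left hχ.1).resolve_left hχ.2
        have h0 := B.zeroV χ hd y hy hy1 1 V.one_mem
        rw [one_mul] at h0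
        rw [h0, map_zero, mul_zero, zero_div],
      Finset.sum_union B.disj,
      Finset.sum_congr rfl fun χ hχ => show _ = (sg χ : ℂ) * ((χ : G → ℂ) g ^ 2 / (χ : G → ℂ) 1) by
        rw [B.valX χ hχ y hy hy1, map_intCast]; ring,
      Finset.sum_congr (s₁ := Y) rfl fun θ hθ => show _ =
          ((θ0 : G → ℂ) g ^ 2 / (θ0 : G → ℂ) 1) * conj ((θ : G → ℂ) y) by
        rw [B.agree θ hθ θ0 hθ0 g hg, B.deg_Y hθ hθ0]; ring,
      ← Finset.mul_sum, ← map_sum, B.col_Y hV hy hy1, map_intCast]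
    ring
  have hp1 : ∀ g : G, (principal G : G → ℂ) g = 1 := fun _ => rfl
  rcases B.prin with h | h
  · obtain ⟨a, ha⟩ := Finset.card_eq_one.1
      (show (X.erase (principal G)).card = 1 by rw [Finset.card_erase_of_mem h, B.cardX])
    have hmem : a ∈ X.erase (principal G) := ha ▸ Finset.mem_singleton_self a
    refine ⟨a, θ0, sg a, δ, Finset.ne_of_mem_erase hmem, fun h' => ?_,
      B.signX a (Finset.mem_of_mem_erase hmem), B.sign,
      B.not_dvd a (Or.inl (Finset.mem_of_mem_erase hmem)), B.not_dvd θ0 (Or.inr hθ0),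
      fun g hg => ⟨?_, ?_⟩⟩
    · exact Finset.disjoint_left.1 B.disj h (h' ▸ hθ0)
    · have h1 := B.relation g hg θ0 hθ0
      rw [← Finset.add_sum_erase _ _ h, ha, Finset.sum_singleton, B.sign_principal h, hp1] at h1
      simpa using h1
    · rw [hbr g hg, ← Finset.add_sum_erase _ _ h, ha, Finset.sum_singleton, B.sign_principal h,
        hp1, hp1]
      simp
  · have hY := B.single h
    obtain rfl : θ0 = principal G := by rw [hY, Finset.mem_singleton] at hθ0; exact hθ0
    have hδ : δ = 1 := by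
      have h1 := B.col_Y hV hy hy1
      rw [hY, Finset.sum_singleton, hp1] at h1
      exact_mod_cast h1.symm
    obtain ⟨a, b, hab, hX⟩ := Finset.card_eq_two.1 B.cardX
    have ha : a ∈ X := by simp [hX]
    have hb : b ∈ X := by simp [hX]
    refine ⟨a, b, sg a, sg b, fun h' => ?_, fun h' => ?_, B.signX a ha, B.signX b hb,
      B.not_dvd a (Or.inl ha), B.not_dvd b (Or.inl hb), fun g hg => ⟨?_, ?_⟩⟩
    · exact Finset.disjoint_left.1 B.disj ha (h' ▸ h)
    · exact Finset.disjoint_left.1 B.disj hb (h' ▸ h)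
    · have h1 := B.relation g hg _ hθ0
      rw [hX, Finset.sum_pair hab, hδ, hp1] at h1
      linear_combination h1
    · rw [hbr g hg, hX, Finset.sum_pair hab, hδ, hp1, hp1]
      simp only [Int.cast_one, one_pow, div_one]
      ring

/-- A simple group of order `p m 2 ^ b` with a dihedral Sylow normalizer, for `m` odd, when `m`
is the only odd degree prime to `p`. -/
theorem two_pow_le_of_odd [IsSimpleGroup G] (hperf : commutator G = ⊤) {p m b : ℕ}
    [hpF : Fact p.Prime] (hm : 1 < m) (hm2 : Odd m) (hp2 : p ≠ 2)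
    (huni : ∀ χ : IrrCharacter G, χ ≠ principal G → ¬ p ∣ charDegree (χ : G → ℂ) →
      Odd (charDegree (χ : G → ℂ)) → charDegree (χ : G → ℂ) = m)
    (hG : Nat.card G = p * m * 2 ^ b) (S : Sylow p G) (hS : Nat.card (S : Subgroup G) = p)
    (hC : Subgroup.centralizer ((S : Subgroup G) : Set G) = (S : Subgroup G))
    (hN : Nat.card (Subgroup.normalizer ((S : Subgroup G) : Set G)) = p * 2) :
    2 ^ b ≤ m + 1 := by
  have hp : p.Prime := Fact.out
  rcases Nat.eq_zero_or_pos b with hb | hb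
  · subst hb
    omega
  obtain ⟨V, e, X, Y, δ, sg, B⟩ := exists_pblock S hS
  have hV : Nat.card V = 1 := by
    have h := B.cardC
    rw [hC, hS] at h
    exact (mul_right_eq_self₀.1 h.symm).resolve_right hp.ne_zero
  obtain rfl : e = 2 := by
    have h := B.cardN
    rw [hN, hV, mul_one] at h
    exact (Nat.eq_of_mul_eq_mul_left hp.pos h).symm
  obtain ⟨y, hy⟩ := B.exists_ne_one
  have hy1 : (y : G) ≠ 1 := fun h => hy (Subtype.ext h)
  obtain ⟨a, c, sa, sc, hane, hcne, hsa, hsc, hpa, hpc, hrel⟩ := B.pair hV y.2 hy1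
  -- an involution, central in a Sylow subgroup
  haveI : Fact (Nat.Prime 2) := ⟨Nat.prime_two⟩
  obtain ⟨T⟩ : Nonempty (Sylow 2 G) := inferInstance
  have hT : Nat.card (T : Subgroup G) = 2 ^ b := by
    have hm0' : m ≠ 0 := by omega
    rw [T.card_eq_multiplicity, hG, Nat.factorization_mul (Nat.mul_ne_zero hp.ne_zero hm0')
      (pow_ne_zero _ two_ne_zero), Nat.factorization_mul hp.ne_zero hm0', Finsupp.add_apply,
      Finsupp.add_apply, hp.factorization, Nat.prime_two.factorization_pow,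
      Nat.factorization_eq_zero_of_not_dvd fun h => (Nat.not_even_iff_odd.2 hm2) (even_iff_two_dvd.2 h)]
    simp [hp2]
  haveI : Nontrivial (T : Subgroup G) :=
    Finite.one_lt_card_iff_nontrivial.1 (by rw [hT]; exact Nat.one_lt_two_pow (by omega))
  obtain ⟨x, hxc, hx1⟩ : ∃ x ∈ Subgroup.center (T : Subgroup G), x ≠ 1 := by
    haveI := T.2.center_nontrivial
    obtain ⟨w, hw⟩ := exists_ne (1 : Subgroup.center (T : Subgroup G))
    exact ⟨w, w.2, fun e => hw (Subtype.ext e)⟩
  have hxne : (x : G) ≠ 1 := fun h => hx1 (Subtype.ext h)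
  have hTle : (T : Subgroup G) ≤ Subgroup.centralizer ({(x : G)} : Set G) := fun t ht =>
    Subgroup.mem_centralizer_singleton_iff.2
      (congrArg Subtype.val (Subgroup.mem_center_iff.1 hxc ⟨t, ht⟩))
  set c0 := (Subgroup.centralizer ({(x : G)} : Set G)).index with hc0
  have hc0d : c0 ∣ p * m := by
    have h1 := Subgroup.index_dvd_of_le hTle
    have h2 := (T : Subgroup G).card_mul_index
    rw [hT, hG, mul_comm (p * m)] at h2
    rwa [Nat.eq_of_mul_eq_mul_left (by positivity) h2] at h1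
  have hc0o : Nat.Coprime c0 2 := by
    refine Nat.Coprime.coprime_dvd_left hc0d (Nat.Coprime.mul_left ?_ ?_)
    · exact (Nat.coprime_primes hp Nat.prime_two).2 hp2
    · exact Nat.coprime_two_right.2 hm2
  have hxp : ¬ p ∣ orderOf (x : G) := fun h => by
    have h1 := h.trans ((Subgroup.orderOf_dvd_natCard _ x.2).trans (dvd_of_eq hT))
    exact hp2 ((Nat.prime_dvd_prime_iff_eq hp Nat.prime_two).1 (hp.dvd_of_dvd_pow h1))
  -- degrees
  have hdeg : ∀ χ : IrrCharacter G, χ ≠ principal G → ¬ p ∣ charDegree (χ : G → ℂ) →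
      2 ≤ charDegree (χ : G → ℂ) ∧ charDegree (χ : G → ℂ) ∣ m * 2 ^ b := by
    intro χ hne hd
    refine ⟨?_, ?_⟩
    · by_contra h
      refine hne (eq_principal_of_deg_one hperf ?_)
      rw [irr_one_eq_charDegree, show charDegree (χ : G → ℂ) = 1 by have := charDegree_pos χ; omega,
        Nat.cast_one]
    · have h := charDegree_dvd_card χ
      rw [hG, mul_assoc] at h
      exact ((hp.coprime_iff_not_dvd.2 hd).symm).dvd_of_dvd_mul_left h
  suffices key : ∀ (o E : IrrCharacter G) (so sE : ℤ), o ≠ principal G → E ≠ principal G →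
      ¬ p ∣ charDegree (o : G → ℂ) → ¬ p ∣ charDegree (E : G → ℂ) →
      (so = 1 ∨ so = -1) → (sE = 1 ∨ sE = -1) → Odd (charDegree (o : G → ℂ)) →
      (1 + so * (charDegree (o : G → ℂ) : ℤ) + sE * (charDegree (E : G → ℂ) : ℤ) = 0) →
      (1 + (so : ℂ) * (o : G → ℂ) x + (sE : ℂ) * (E : G → ℂ) x = 0) →
      (∑ χ : IrrCharacter G, (χ : G → ℂ) x ^ 2 * conj ((χ : G → ℂ) y) / (χ : G → ℂ) 1 =
          1 + (so : ℂ) * ((o : G → ℂ) x ^ 2 / (o : G → ℂ) 1) +
            (sE : ℂ) * ((E : G → ℂ) x ^ 2 / (E : G → ℂ) 1)) → 2 ^ b ≤ m + 1 by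
    obtain ⟨h1, h2⟩ := hrel 1 (by simpa using hp.ne_one)
    have h1' : 1 + sa * (charDegree (a : G → ℂ) : ℤ) + sc * (charDegree (c : G → ℂ) : ℤ) = 0 := by
      simp only [irr_one_eq_charDegree] at h1
      exact_mod_cast h1
    obtain ⟨hx1', hx2'⟩ := hrel (x : G) hxp
    rcases Nat.even_or_odd (charDegree (a : G → ℂ)) with he | he
    · refine key c a sc sa hcne hane hpc hpa hsc hsa ?_ (by linarith) (by linear_combination hx1')
        (by rw [hx2']; ring)
      obtain ⟨k, hk⟩ := he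
      rw [hk] at h1'
      rcases Nat.even_or_odd (charDegree (c : G → ℂ)) with ⟨l, hl⟩ | h
      · exfalso
        rw [hl] at h1'
        rcases hsa with rfl | rfl <;> rcases hsc with rfl | rfl <;> push_cast at h1' <;> omega
      · exact h
    · exact key a c sa sc hane hcne hpa hpc hsa hsc he h1' hx1' hx2'
  intro o E so sE hone hEne hpo hpE hso hsE hodd hr hrx hsum
  obtain ⟨ho2, hod⟩ := hdeg o hone hpo
  obtain ⟨hE2, hEd⟩ := hdeg E hEne hpE
  have hom : charDegree (o : G → ℂ) = m := huni o hone hpo hodd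
  rw [hom] at hr
  have hEc : Nat.Coprime (charDegree (E : G → ℂ)) c0 := by
    have hEm : Nat.Coprime (charDegree (E : G → ℂ)) m := by
      refine Nat.coprime_of_dvd' fun l hl h hlm => ?_
      have h1 : (l : ℤ) ∣ 1 := by
        have h2 : (l : ℤ) ∣ sE * (charDegree (E : G → ℂ) : ℤ) :=
          dvd_mul_of_dvd_right (Int.natCast_dvd_natCast.2 h) _
        have h3 : (1 : ℤ) = -(so * (m : ℤ)) - sE * (charDegree (E : G → ℂ) : ℤ) := by linarith
        rw [h3]
        exact dvd_sub (dvd_neg.2 (dvd_mul_of_dvd_right (Int.natCast_dvd_natCast.2 hlm) _)) h2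
      exact_mod_cast h1
    exact Nat.Coprime.coprime_dvd_right hc0d (Nat.Coprime.mul_right
      ((hp.coprime_iff_not_dvd.2 hpE).symm) hEm)
  have hEx : (E : G → ℂ) x = 0 :=
    eq_zero_of_coprime_class (center_eq_bot hperf) E
      (fun g => faithful_of_simple hperf hEne) hxne hEc
  have hox : (o : G → ℂ) x = -(so : ℂ) := by
    rw [hEx] at hrx
    rcases hso with rfl | rfl <;> push_cast at hrx ⊢
    · linear_combination hrx
    · linear_combination -hrx
  rw [hEx, hox, irr_one_eq_charDegree, hom] at hsum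
  have h := pairsCount_eq (x : G) (y : G)
  rw [hsum, ← hc0, hG] at h
  have hm0 : (m : ℂ) ≠ 0 := Nat.cast_ne_zero.2 (by omega)
  have hso2 : (so : ℂ) ^ 2 = 1 := by rcases hso with rfl | rfl <;> norm_num
  have hz : ((p : ℤ) * m * 2 ^ b * pairsCount (x : G) (y : G)) * m = (c0 : ℤ) ^ 2 * (m + so) := by
    have h1 : (((p : ℤ) * m * 2 ^ b * pairsCount (x : G) (y : G) * m : ℤ) : ℂ) =
        (((c0 : ℤ) ^ 2 * (m + so) : ℤ) : ℂ) := by
      push_cast at h ⊢
      rw [h]
      field_simp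
      linear_combination (c0 : ℂ) ^ 2 * (so : ℂ) * hso2
    exact_mod_cast h1
  have hpos : 0 < (m : ℤ) + so := by
    rcases hso with rfl | rfl <;> omega
  obtain ⟨k, hk⟩ : ∃ k : ℕ, (k : ℤ) = (m : ℤ) + so := ⟨_, Int.toNat_of_nonneg hpos.le⟩
  rw [← hk] at hz
  have hd : 2 ^ b ∣ c0 ^ 2 * k := ⟨p * m * pairsCount (x : G) (y : G) * m, by
    have : ((c0 ^ 2 * k : ℕ) : ℤ) = ((2 ^ b * (p * m * pairsCount (x : G) (y : G) * m) : ℕ) : ℤ) := by
      push_cast; rw [← hz]; ring
    exact_mod_cast this⟩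
  have h2 := Nat.le_of_dvd (by omega)
    ((Nat.Coprime.pow b 2 (Nat.coprime_comm.1 hc0o)).dvd_of_dvd_mul_left hd)
  rcases hso with rfl | rfl <;> omega

/-- A simple group of order `p m 2 ^ b` with a dihedral Sylow normalizer. -/
theorem two_pow_le [IsSimpleGroup G] (hperf : commutator G = ⊤) {p m b : ℕ} [hpF : Fact p.Prime]
    (hm : m.Prime) (hm2 : m ≠ 2) (hp2 : p ≠ 2)
    (hG : Nat.card G = p * m * 2 ^ b) (S : Sylow p G) (hS : Nat.card (S : Subgroup G) = p)
    (hC : Subgroup.centralizer ((S : Subgroup G) : Set G) = (S : Subgroup G))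
    (hN : Nat.card (Subgroup.normalizer ((S : Subgroup G) : Set G)) = p * 2) :
    2 ^ b ≤ m + 1 := by
  refine two_pow_le_of_odd hperf hm.one_lt (hm.odd_of_ne_two hm2) hp2 ?_ hG S hS hC hN
  intro χ hne hd hodd
  have h := charDegree_dvd_card χ
  rw [hG, mul_assoc] at h
  have h1 := (Nat.Coprime.pow_right b (Nat.coprime_two_right.2 hodd)).dvd_of_dvd_mul_right
    (((hpF.out.coprime_iff_not_dvd.2 hd).symm).dvd_of_dvd_mul_left h)
  refine ((Nat.dvd_prime hm).1 h1).resolve_left fun h2 => hne (eq_principal_of_deg_one hperf ?_)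
  rw [irr_one_eq_charDegree, h2, Nat.cast_one]

end Cfsg.Agent.SmallN
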