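import Cfsg.Agent.Lib.SmallN.ThreePrimes.Bound

/-!
An exceptional character of small degree.
-/

set_option autoImplicit false
set_option linter.style.haveILetI false
set_option linter.unusedSectionVars false

namespace Cfsg.Agent.SmallN

open Cfsg Cfsg.Agent.Char Cfsg.Agent.Blocks Cfsg.Agent.BrauerPairs
open scoped ComplexConjugate Classical

universe u

variable {G : Type u} [Group G] [Fintype G]

theorem norm_hom_eq_one {H : Type u} [Group H] [Finite H] (f : H →* ℂˣ) (x : H) :
    ‖((f x : ℂˣ) : ℂ)‖ = 1 := by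
  refine norm_eq_one_of_pow (m := orderOf x) (orderOf_pos x).ne' ?_
  rw [← Units.val_pow_eq_pow_val, ← map_pow, pow_orderOf_eq_one, map_one, Units.val_one]

/-- The orthogonality of linear characters. -/
theorem sum_lin_mul_conj {H : Type u} [Group H] [Fintype H] (l l' : H →* ℂˣ) :
    ∑ y, ((l y : ℂˣ) : ℂ) * conj ((l' y : ℂˣ) : ℂ) = if l = l' then (Nat.card H : ℂ) else 0 := by
  have hconj : ∀ y, conj ((l' y : ℂˣ) : ℂ) = (((l' y)⁻¹ : ℂˣ) : ℂ) := fun y => by
    rw [Units.val_inv_eq_inv_val]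
    exact (Complex.inv_eq_conj (norm_hom_eq_one l' y)).symm
  simp only [hconj]
  split_ifs with h
  · subst h
    rw [Finset.sum_congr rfl fun y _ => Units.mul_inv (l y), Finset.sum_const, Finset.card_univ,
      nsmul_eq_mul, mul_one, Nat.card_eq_fintype_card]
  · refine Eq.trans (Finset.sum_congr rfl fun y _ => ?_)
      (sum_hom_units_eq_zero ((Units.coeHom ℂ).comp (l * l'⁻¹)) fun e => h ?_)
    · simp
    · refine MonoidHom.ext fun y => ?_
      have h1 : (((l * l'⁻¹) y : ℂˣ) : ℂ) = 1 := DFunLike.congr_fun e y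
      rw [Units.val_eq_one, MonoidHom.mul_apply, MonoidHom.inv_apply, mul_inv_eq_one] at h1
      exact h1

namespace PBlock

variable {p : ℕ} {S V : Subgroup G} {e : ℕ} {X Y : Finset (IrrCharacter G)} {δ : ℤ}
  {sg : IrrCharacter G → ℤ} (B : PBlock p S V e X Y δ sg)
include B

theorem V_le_normalizer : V ≤ Subgroup.normalizer (S : Set G) :=
  B.V_le.trans (Subgroup.centralizer_le_normalizer _)

theorem fix_V {χ : IrrCharacter G} (hχ : χ ∈ X ∨ χ ∈ Y) (x : V) :
    (p : ℂ) * fixFun S V (χ : G → ℂ) x =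
      (χ : G → ℂ) x + ∑ y ∈ Finset.univ.erase (1 : S), (χ : G → ℂ) y := by
  rw [fixFun, B.cardS, mul_inv_cancel_left₀ (Nat.cast_ne_zero.2 B.hp.ne_zero),
    ← Finset.add_sum_erase _ _ (Finset.mem_univ (1 : S)), OneMemClass.coe_one, mul_one]
  congr 1
  exact Finset.sum_congr rfl fun y hy =>
    B.sect χ hχ y y.2 (fun h => Finset.ne_of_mem_erase hy (Subtype.ext h)) x x.2

/-- A small exceptional character has `V` in its kernel. -/
theorem V_eq_one [IsSimpleGroup G] (hperf : commutator G = ⊤) {θ : IrrCharacter G} (hθ : θ ∈ Y)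
    (hne : θ ≠ principal G)
    (h : (δ = -1 ∧ charDegree (θ : G → ℂ) = e) ∨ (δ = 1 ∧ charDegree (θ : G → ℂ) + e = p))
    (he : 0 < e) : Nat.card V = 1 := by
  refine Subgroup.card_eq_one.2 ((Subgroup.eq_bot_iff_forall V).2 fun x hx => ?_)
  have hp0 : (p : ℂ) ≠ 0 := Nat.cast_ne_zero.2 B.hp.ne_zero
  have hc := isCharacter_fixFun S V B.V_le_normalizer (IsIrrCharacter.isCharacter θ.2)
  have h1 := B.fix_V (Or.inr hθ) (1 : V)
  have hval := B.fix_V (Or.inr hθ) ⟨x, hx⟩
  rw [B.sum_Y hθ, OneMemClass.coe_one, irr_one_eq_charDegree] at h1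
  rw [B.sum_Y hθ] at hval
  refine faithful_of_simple hperf hne ?_
  rw [irr_one_eq_charDegree]
  rcases h with ⟨hδ, hd⟩ | ⟨hδ, hd⟩
  · rw [hδ, hd] at h1
    push_cast at h1
    have hz : fixFun S V (θ : G → ℂ) = 0 :=
      IsCharacter.eq_zero_of_one hc (mul_left_cancel₀ hp0 (by rw [mul_zero, h1]; ring))
    rw [hz, hδ] at hval
    push_cast at hval
    simp only [Pi.zero_apply, mul_zero] at hval
    rw [hd]
    linear_combination -hval
  · have hd' : (charDegree (θ : G → ℂ) : ℂ) + e = p := by exact_mod_cast hd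
    rw [hδ, Int.cast_one, one_mul, hd'] at h1
    obtain ⟨f, hf⟩ := exists_hom_of_degree_one hc
      (mul_left_cancel₀ hp0 (by rw [h1, mul_one]))
    have hw := norm_hom_eq_one f ⟨x, hx⟩
    rw [hδ, Int.cast_one, one_mul, congrFun hf ⟨x, hx⟩] at hval
    set w := ((f ⟨x, hx⟩ : ℂˣ) : ℂ)
    have hle : ‖(θ : G → ℂ) x‖ ≤ (charDegree (θ : G → ℂ) : ℝ) :=
      norm_le_one (IsIrrCharacter.isCharacter θ.2) (irr_one_eq_charDegree θ) x
    have hx' : (θ : G → ℂ) x = (p : ℂ) * w - e := by linear_combination -hval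
    rw [hx'] at hle
    have hw1 : w = 1 := by
      have h2 : ‖(p : ℂ) * w - e‖ ^ 2 ≤ (charDegree (θ : G → ℂ) : ℝ) ^ 2 :=
        pow_le_pow_left₀ (norm_nonneg _) hle 2
      have h3 : w.re * w.re + w.im * w.im = 1 := by
        rw [← Complex.normSq_apply, Complex.normSq_eq_norm_sq, hw, one_pow]
      rw [← Complex.normSq_eq_norm_sq, Complex.normSq_apply] at h2
      simp only [Complex.sub_re, Complex.mul_re, Complex.natCast_re, Complex.natCast_im, zero_mul,
        sub_zero, Complex.sub_im, Complex.mul_im, add_zero] at h2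
      have hd'' : (charDegree (θ : G → ℂ) : ℝ) = (p : ℝ) - e := by
        rw [eq_sub_iff_add_eq]; exact_mod_cast hd
      rw [hd''] at h2
      have hpe : (0 : ℝ) < (p : ℝ) * e := by
        have := B.hp.pos
        positivity
      have hre : 1 ≤ w.re := by
        by_contra hc'
        push Not at hc'
        have h4 : ((p : ℝ) * w.re - e) * ((p : ℝ) * w.re - e) + (p : ℝ) * w.im * ((p : ℝ) * w.im) =
            (p : ℝ) ^ 2 - 2 * ((p : ℝ) * e) * w.re + (e : ℝ) ^ 2 := by
          linear_combination (p : ℝ) ^ 2 * h3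
        nlinarith [mul_pos hpe (sub_pos.2 hc')]
      have hre' : w.re = 1 := le_antisymm ((Complex.re_le_norm w).trans hw.le) hre
      have him : w.im = 0 := by rw [hre'] at h3; nlinarith
      exact Complex.ext (by simpa using hre') (by simpa using him)
    rw [hx', hw1, mul_one, ← hd']
    ring

/-- A character of prime degree at a prime dividing the order once. -/
theorem V_eq_one_of_deg [IsSimpleGroup G] (hperf : commutator G = ⊤) {χ : IrrCharacter G}
    (hne : χ ≠ principal G) (hd : charDegree (χ : G → ℂ) = p) : Nat.card V = 1 := by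
  refine Subgroup.card_eq_one.2 ((Subgroup.eq_bot_iff_forall V).2 fun x hx => ?_)
  have hp0 : (p : ℂ) ≠ 0 := Nat.cast_ne_zero.2 B.hp.ne_zero
  have hc := isCharacter_fixFun S V B.V_le_normalizer (IsIrrCharacter.isCharacter χ.2)
  have hfix : ∀ v : V, (p : ℂ) * fixFun S V (χ : G → ℂ) v = (χ : G → ℂ) v := by
    intro v
    rw [fixFun, B.cardS, mul_inv_cancel_left₀ hp0,
      ← Finset.add_sum_erase _ _ (Finset.mem_univ (1 : S)), OneMemClass.coe_one, mul_one,
      Finset.sum_eq_zero fun (y : S) hy =>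
        B.zeroV χ (hd ▸ dvd_refl _) y y.2 (fun h => Finset.ne_of_mem_erase hy (Subtype.ext h)) v v.2,
      add_zero]
  have h1 := hfix 1
  rw [OneMemClass.coe_one, irr_one_eq_charDegree, hd] at h1
  obtain ⟨f, hf⟩ := exists_hom_of_degree_one hc (mul_left_cancel₀ hp0 (by rw [h1, mul_one]))
  refine eq_one_of_norm hperf hne ?_
  have h2 := hfix ⟨x, hx⟩
  rw [congrFun hf ⟨x, hx⟩] at h2
  rw [← h2, norm_mul, norm_hom_eq_one, mul_one, Complex.norm_natCast, hd]

/-- An exceptional character of degree `e` forces `p = 2 e + 1`. -/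
theorem deg_eq_succ (hperf : commutator G = ⊤) (hV : Nat.card V = 1) {θ : IrrCharacter G}
    (hθ : θ ∈ Y) (hδ : δ = -1) (hd : charDegree (θ : G → ℂ) = e) (he : 2 ≤ e)
    (hep : 2 * e + 1 ≤ p) :
    p = 2 * e + 1 ∧ p + 1 ∣ Nat.card G := by
  obtain ⟨L, hL1, hLc, hL⟩ := B.linY θ hθ
  have hθS : ∀ y : S, (θ : G → ℂ) y = ∑ l ∈ L, ((l y : ℂˣ) : ℂ) := by
    intro y
    by_cases hy : y = 1
    · subst hy
      rw [OneMemClass.coe_one, irr_one_eq_charDegree, hd]
      simp [hLc]
    · rw [hL y hy, hδ]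
      push_cast
      ring
  set f : G → ℂ := (θ : G → ℂ) * fun g => conj ((θ : G → ℂ) g) with hfdef
  have hfc : IsCharacter G f :=
    IsCharacter.mul (IsIrrCharacter.isCharacter θ.2) (IsCharacter.conj (IsIrrCharacter.isCharacter θ.2))
  obtain ⟨m, hm⟩ := IsCharacter.exists_decomp hfc
  have happ : ∀ g, f g = ∑ ψ : IrrCharacter G, (m ψ : ℂ) * (ψ : G → ℂ) g := fun g => by
    rw [hm, Finset.sum_apply]
    rfl
  have hmπ : m (principal G) = 1 := by
    have h1 : classInner f (principal G : G → ℂ) = (m (principal G) : ℂ) := by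
      rw [hm]; exact classInner_combination _ _
    have h2 : classInner f (principal G : G → ℂ) = classInner (θ : G → ℂ) (θ : G → ℂ) := by
      simp only [classInner]
      congr 1
      refine Finset.sum_congr rfl fun g _ => ?_
      simp [hfdef, principal]
    rw [h2, classInner_self_irr θ.2] at h1
    exact_mod_cast h1.symm
  have hsum : ∑ y : S, f y = (p : ℂ) * e := by
    simp only [hfdef, Pi.mul_apply, hθS, map_sum, Finset.sum_mul_sum]
    rw [Finset.sum_comm, Finset.sum_congr rfl fun l hl => by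
      rw [Finset.sum_comm, Finset.sum_congr rfl fun l' _ => sum_lin_mul_conj l l',
        Finset.sum_ite_eq, if_pos hl], Finset.sum_const, hLc, nsmul_eq_mul, B.cardS, mul_comm]
  -- fixed points of the other constituents
  have hk : ∀ ψ : IrrCharacter G, ψ ≠ principal G → ∃ k : ℕ,
      ∑ y : S, (ψ : G → ℂ) y = (p : ℂ) * k ∧ (e + 1) * k ≤ charDegree (ψ : G → ℂ) ∧
        ((e + 1) * k = charDegree (ψ : G → ℂ) → 0 < k →
          p = 2 * e + 1 ∧ charDegree (ψ : G → ℂ) = p + 1) := by
    intro ψ hψ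
    have hsplit : ∑ y : S, (ψ : G → ℂ) y = (charDegree (ψ : G → ℂ) : ℂ) +
        ∑ y ∈ Finset.univ.erase (1 : S), (ψ : G → ℂ) y := by
      rw [← Finset.add_sum_erase _ _ (Finset.mem_univ (1 : S)), OneMemClass.coe_one,
        irr_one_eq_charDegree]
    set d := charDegree (ψ : G → ℂ) with hd'
    have hdpos : 0 < d := charDegree_pos ψ
    rcases B.cover hV ψ with hX | hY | hdvd
    · rw [Finset.sum_congr rfl fun (y : S) hy => B.valX ψ hX y y.2
        (fun h => Finset.ne_of_mem_erase hy (Subtype.ext h)), Finset.sum_const,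
        Finset.card_erase_of_mem (Finset.mem_univ _), Finset.card_univ, ← Nat.card_eq_fintype_card,
        B.cardS, nsmul_eq_mul, Nat.cast_sub B.hp.pos, Nat.cast_one] at hsplit
      have hd2 : 2 ≤ d := by
        by_contra h
        refine hψ (eq_principal_of_deg_one hperf ?_)
        rw [irr_one_eq_charDegree, ← hd', show d = 1 by omega, Nat.cast_one]
      obtain ⟨w, hw⟩ := Int.modEq_iff_dvd.1 (B.modX ψ hX)
      rcases B.signX ψ hX with hs | hs <;> rw [hs] at hw hsplit
      · obtain ⟨u, hu⟩ : ∃ u : ℕ, (u : ℤ) = -w := by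
          refine ⟨(-w).toNat, Int.toNat_of_nonneg ?_⟩
          by_contra hc
          have : (p : ℤ) * 1 ≤ (p : ℤ) * w := mul_le_mul_of_nonneg_left (by omega) (by omega)
          omega
        have hdu : d = u * p + 1 := by
          have : (d : ℤ) = ((u * p + 1 : ℕ) : ℤ) := by push_cast; rw [hu]; linarith
          exact_mod_cast this
        refine ⟨u + 1, ?_, ?_, ?_⟩
        · rw [hsplit, hdu]; push_cast; ring
        · rw [hdu]
          have hu1 : 1 ≤ u := by
            by_contra hc; rw [show u = 0 by omega] at hdu; omega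
          nlinarith
        · intro heq _
          rw [hdu] at heq
          have hu1 : 1 ≤ u := by
            by_contra hc; rw [show u = 0 by omega] at hdu; omega
          rcases Nat.lt_or_ge 1 u with h | h
          · exfalso; nlinarith
          · obtain rfl : u = 1 := by omega
            exact ⟨by omega, by omega⟩
      · obtain ⟨u, hu⟩ : ∃ u : ℕ, (u : ℤ) = -w := by
          refine ⟨(-w).toNat, Int.toNat_of_nonneg ?_⟩
          by_contra hc
          have : (p : ℤ) * 1 ≤ (p : ℤ) * w := mul_le_mul_of_nonneg_left (by omega) (by omega)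
          omega
        have hdu : d + 1 = u * p := by
          have : ((d + 1 : ℕ) : ℤ) = ((u * p : ℕ) : ℤ) := by push_cast; rw [hu]; linarith
          exact_mod_cast this
        obtain ⟨u', rfl⟩ : ∃ u', u = u' + 1 := by
          refine ⟨u - 1, ?_⟩
          rcases Nat.eq_zero_or_pos u with rfl | h <;> omega
        have hlt : (e + 1) * u' < d := by nlinarith
        refine ⟨u', ?_, hlt.le, fun heq _ => absurd heq hlt.ne⟩
        rw [hsplit]
        have : (d : ℂ) + 1 = ((u' + 1 : ℕ) : ℂ) * p := by exact_mod_cast hdu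
        push_cast at this ⊢
        linear_combination this
    · refine ⟨0, ?_, by simp, fun _ h => absurd h (lt_irrefl 0)⟩
      rw [hsplit, B.sum_Y hY, hδ, hd', ← irr_one_eq_charDegree, B.deg_Y hY hθ,
        irr_one_eq_charDegree, hd]
      push_cast; ring
    · obtain ⟨u, hu⟩ := hdvd
      have hu' : d = p * u := hu
      have hu1 : 1 ≤ u := by
        by_contra h
        rw [show u = 0 by omega, mul_zero] at hu'
        omega
      have hlt : (e + 1) * u < d := by
        rw [hu']
        exact Nat.mul_lt_mul_of_pos_right (by omega) hu1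
      refine ⟨u, ?_, hlt.le, fun heq _ => absurd heq hlt.ne⟩
      rw [hsplit, Finset.sum_eq_zero fun y hy => ?_, add_zero, hu', Nat.cast_mul]
      have h0 := B.zeroV ψ ⟨u, hu⟩ y y.2 (fun h => Finset.ne_of_mem_erase hy (Subtype.ext h)) 1 V.one_mem
      rwa [one_mul] at h0
  choose k hk1 hk2 hk3 using hk
  set R := (Finset.univ : Finset (IrrCharacter G)).erase (principal G) with hR
  let k' : IrrCharacter G → ℕ := fun ψ => if h : ψ = principal G then 0 else k ψ h
  have hk' : ∀ ψ (h : ψ ≠ principal G), k' ψ = k ψ h := fun ψ h => dif_neg h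
  have hpr1 : (principal G : G → ℂ) = fun _ => 1 := rfl
  have hdeg : ∑ ψ ∈ R, m ψ * charDegree (ψ : G → ℂ) + 1 = e * e := by
    have h1 := happ 1
    rw [hfdef, Pi.mul_apply] at h1
    simp only [irr_one_eq_charDegree, Complex.conj_natCast, hd] at h1
    rw [← Finset.add_sum_erase _ _ (Finset.mem_univ (principal G)), hmπ] at h1
    have h2 : charDegree (principal G : G → ℂ) = 1 := Cfsg.Agent.CharX.charDegree_one
    rw [h2] at h1
    have h3 : ((∑ ψ ∈ R, m ψ * charDegree (ψ : G → ℂ) + 1 : ℕ) : ℂ) = ((e * e : ℕ) : ℂ) := by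
      push_cast
      rw [h1]
      simp only [hR]
      push_cast
      ring
    exact_mod_cast h3
  have hfix : ∑ ψ ∈ R, m ψ * k' ψ + 1 = e := by
    have h1 := hsum
    simp only [happ] at h1
    rw [Finset.sum_comm, ← Finset.add_sum_erase _ _ (Finset.mem_univ (principal G))] at h1
    simp only [← Finset.mul_sum] at h1
    rw [hmπ, Finset.sum_congr (s₁ := Finset.univ.erase (principal G)) rfl
      fun ψ hψ => by rw [hk1 ψ (Finset.ne_of_mem_erase hψ), ← hk' ψ (Finset.ne_of_mem_erase hψ)],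
      hpr1, Finset.sum_const, Finset.card_univ, ← Nat.card_eq_fintype_card, B.cardS, nsmul_eq_mul,
      mul_one, Nat.cast_one, one_mul] at h1
    have h2 : ((p * (∑ ψ ∈ R, m ψ * k' ψ + 1) : ℕ) : ℂ) = ((p * e : ℕ) : ℂ) := by
      push_cast
      rw [← h1, mul_add, mul_one, Finset.mul_sum, add_comm]
      congr 1
      exact Finset.sum_congr rfl fun ψ _ => by ring
    exact Nat.eq_of_mul_eq_mul_left B.hp.pos (by exact_mod_cast h2)
  obtain ⟨ψ, hψR, hψ⟩ : ∃ ψ ∈ R, 0 < m ψ * k' ψ := by
    by_contra hcon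
    push Not at hcon
    rw [Finset.sum_eq_zero fun ψ hψ => Nat.le_zero.1 (hcon ψ hψ)] at hfix
    omega
  have hψne := Finset.ne_of_mem_erase hψR
  have hle : ∀ φ ∈ R, m φ * ((e + 1) * k' φ) ≤ m φ * charDegree (φ : G → ℂ) := fun φ hφ =>
    Nat.mul_le_mul_left _ (hk' φ (Finset.ne_of_mem_erase hφ) ▸ hk2 φ _)
  have heq : ∑ φ ∈ R, m φ * ((e + 1) * k' φ) = ∑ φ ∈ R, m φ * charDegree (φ : G → ℂ) := by
    rw [Finset.sum_congr rfl fun φ _ => show m φ * ((e + 1) * k' φ) = (e + 1) * (m φ * k' φ) by ring,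
      ← Finset.mul_sum]
    nlinarith
  have h1 := (Finset.sum_eq_sum_iff_of_le hle).1 heq ψ hψR
  have hmpos : 0 < m ψ := Nat.pos_of_ne_zero fun h => by rw [h, zero_mul] at hψ; exact lt_irrefl 0 hψ
  have h2 := Nat.eq_of_mul_eq_mul_left hmpos h1
  rw [hk' ψ hψne] at h2
  obtain ⟨h3, h4⟩ := hk3 ψ hψne h2 (Nat.pos_of_ne_zero fun h => by
    rw [hk' ψ hψne, h, mul_zero] at hψ; exact lt_irrefl 0 hψ)
  exact ⟨h3, h4 ▸ charDegree_dvd_card ψ⟩

end PBlock

end Cfsg.Agent.SmallN
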